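import Mathlib.NumberTheory.GaussSum
import Mathlib.NumberTheory.Cyclotomic.Gal
import Mathlib.NumberTheory.LSeries.PrimesInAP
import Mathlib.NumberTheory.LegendreSymbol.QuadraticReciprocity
import Mathlib.NumberTheory.LegendreSymbol.QuadraticChar.GaussSum
import Mathlib.FieldTheory.Galois.Basic
import Mathlib.Tactic.LinearCombination
import Mathlib.Tactic.NormNum.Prime

/-!
A field of characteristic zero with a square root of five and a primitive `p`-th root of unity
(`p` an odd prime other than five) has `-1` as a sum of two squares.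
-/

set_option autoImplicit false
set_option linter.style.haveILetI false

namespace CfsgLib.Amitsur

open Finset

/-- The values of the form `x² + q y²`. -/
def IsForm {K : Type*} [Field K] (q : ℕ) (x : K) : Prop := ∃ a b : K, x = a ^ 2 + q * b ^ 2

theorem IsForm.mul {K : Type*} [Field K] {q : ℕ} {x y : K} (hx : IsForm q x) (hy : IsForm q y) :
    IsForm q (x * y) := by
  obtain ⟨a, b, rfl⟩ := hx
  obtain ⟨c, d, rfl⟩ := hy
  exact ⟨a * c - q * b * d, a * d + b * c, by ring⟩

theorem isForm_one {K : Type*} [Field K] (q : ℕ) : IsForm q (1 : K) := ⟨1, 0, by ring⟩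

/-- Gauss: the `q`-th cyclotomic value is a value of `x² + q y²` when `q ≡ 3 mod 4`. -/
theorem pow_sub_one_form {K : Type*} [Field K] [CharZero K] (q : ℕ) [Fact q.Prime] (hq : q % 4 = 3)
    (z : K) : ∃ c : K, IsForm q c ∧ z ^ q - 1 = (z - 1) * c := by
  classical
  have hqp : q.Prime := Fact.out
  haveI : NeZero q := ⟨hqp.ne_zero⟩
  haveI : NeZero ((q : ℕ) : K) := ⟨Nat.cast_ne_zero.2 hqp.ne_zero⟩
  let L := CyclotomicField q K
  haveI : CharZero L := charZero_of_injective_algebraMap (algebraMap K L).injective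
  haveI : IsGalois K L := IsCyclotomicExtension.isGalois {q} K L
  haveI : FiniteDimensional K L := IsCyclotomicExtension.finiteDimensional {q} K L
  set ω : L := IsCyclotomicExtension.zeta q K L
  have hω : IsPrimitiveRoot ω q := IsCyclotomicExtension.zeta_spec q K L
  set ψ : AddChar (ZMod q) L := AddChar.zmodChar q hω.pow_eq_one
  have hψ : ∀ j : ZMod q, ψ j = ω ^ j.val := fun j => rfl
  have hψp : ψ.IsPrimitive := AddChar.zmodChar_primitive_of_primitive_root q hω
  set χ : MulChar (ZMod q) L := (quadraticChar (ZMod q)).ringHomComp (Int.castRingHom L)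
  have hF : ringChar (ZMod q) ≠ 2 := by rw [ZMod.ringChar_zmod_n]; omega
  have hχ1 : χ ≠ 1 := (MulChar.ringHomComp_ne_one_iff (Int.castRingHom L).injective_int).2 (quadraticChar_ne_one hF)
  have hχ2 : χ.IsQuadratic := (quadraticChar_isQuadratic _).comp _
  set g : L := gaussSum χ ψ
  have hg : g ^ 2 = -(q : L) := by
    rw [gaussSum_sq hχ1 hχ2 hψp]
    have : χ (-1) = -1 := by
      show ((quadraticChar (ZMod q) (-1) : ℤ) : L) = -1
      rw [quadraticChar_neg_one hF, ZMod.card, ZMod.χ₄_nat_three_mod_four hq]; simp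
    rw [this, ZMod.card]; ring
  set zL : L := algebraMap K L z
  let P : ℤ → L := fun ε => ∏ j ∈ Finset.univ.filter (fun j : ZMod q => quadraticChar (ZMod q) j = ε), (zL - ψ j)
  have hσ : ∀ σ : L ≃ₐ[K] L, ∃ e : ℤ, (e = 1 ∨ e = -1) ∧ σ g = (e : L) * g ∧ ∀ ε, σ (P ε) = P (e * ε) := by
    intro σ
    set a : (ZMod q)ˣ := hω.autToPow K σ
    have hspec : ω ^ (a : ZMod q).val = σ ω := hω.autToPow_spec K σ
    have hψσ : ∀ j, σ (ψ j) = ψ ((a : ZMod q) * j) := fun j => by
      rw [hψ, map_pow, ← hspec, ← pow_mul, hψ, ZMod.val_mul]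
      exact pow_eq_pow_mod _ hω.pow_eq_one
    set e : ℤ := quadraticChar (ZMod q) (a : ZMod q)
    have hee : e = 1 ∨ e = -1 := quadraticChar_dichotomy a.ne_zero
    refine ⟨e, hee, ?_, ?_⟩
    · have h1 : σ g = gaussSum χ (AddChar.mulShift ψ a) := by
        simp only [g, gaussSum, map_sum, map_mul, AddChar.mulShift_apply, hψσ]
        refine Finset.sum_congr rfl fun x _ => ?_
        congr 1
        show σ ((quadraticChar (ZMod q) x : ℤ) : L) = ((quadraticChar (ZMod q) x : ℤ) : L)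
        exact map_intCast σ _
      have h2 : χ a * gaussSum χ (AddChar.mulShift ψ a) = g := gaussSum_mulShift χ ψ a
      rw [h1, ← h2]
      have : (e : L) * χ a = 1 := by
        show (e : L) * (e : L) = 1
        rcases hee with h | h <;> rw [h] <;> norm_num
      rw [← mul_assoc, this, one_mul]
    · intro ε
      simp only [P, map_prod, map_sub, hψσ]
      rw [show σ zL = zL from σ.commutes z]
      refine Finset.prod_nbij' (fun j => (a : ZMod q) * j) (fun j => (↑a⁻¹ : ZMod q) * j) ?_ ?_ ?_ ?_ ?_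
      · intro j hj
        simp only [Finset.mem_filter, Finset.mem_univ, true_and, Finset.coe_filter, Set.mem_setOf_eq] at hj ⊢
        rw [map_mul, hj]
      · intro j hj
        simp only [Finset.mem_filter, Finset.mem_univ, true_and, Finset.coe_filter, Set.mem_setOf_eq] at hj ⊢
        have h1 : quadraticChar (ZMod q) ((↑a⁻¹ : ZMod q)) * e = 1 := by
          rw [← map_mul, Units.inv_mul, map_one]
        rw [map_mul, hj, ← mul_assoc, h1, one_mul]
      · intro j _; exact Units.inv_mul_cancel_left a j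
      · intro j _; exact Units.mul_inv_cancel_left a j
      · intro j _; rfl
  set s : L := P 1 + P (-1)
  set t : L := (P 1 - P (-1)) * g / q
  have hfix : ∀ σ : L ≃ₐ[K] L, σ s = s ∧ σ t = t := by
    intro σ
    obtain ⟨e, he, hge, hP⟩ := hσ σ
    have h1 := hP 1
    have h2 := hP (-1)
    have hσq : σ (q : L) = (q : L) := map_natCast σ q
    simp only [s, t, map_add, map_sub, map_mul, map_div₀, hσq, h1, h2, hge]
    rcases he with rfl | rfl
    · norm_num
    · norm_num
      constructor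
      · ring
      · ring
  obtain ⟨s₀, hs₀⟩ := (IsGalois.mem_range_algebraMap_iff_fixed s).2 fun σ => (hfix σ).1
  obtain ⟨t₀, ht₀⟩ := (IsGalois.mem_range_algebraMap_iff_fixed t).2 fun σ => (hfix σ).2
  have hqL : (q : L) ≠ 0 := Nat.cast_ne_zero.2 hqp.ne_zero
  have hprod : zL ^ q - 1 = (zL - 1) * (P 1 * P (-1)) := by
    have hall : zL ^ q - 1 = ∏ j : ZMod q, (zL - ψ j) := by
      have h := congrArg (Polynomial.eval zL) (Polynomial.X_pow_sub_one_eq_prod hqp.pos hω)
      simp only [Polynomial.eval_sub, Polynomial.eval_pow, Polynomial.eval_X, Polynomial.eval_one,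
        Polynomial.eval_prod, Polynomial.eval_C] at h
      rw [h]
      symm
      refine Finset.prod_nbij (fun j => ψ j) ?_ ?_ ?_ (fun j _ => rfl)
      · intro j _
        exact (Polynomial.mem_nthRootsFinset hqp.pos (1 : L)).2 (by rw [hψ, ← pow_mul, mul_comm, pow_mul, hω.pow_eq_one, one_pow])
      · intro i _ j _ hij
        exact ZMod.val_injective q (hω.pow_inj (ZMod.val_lt i) (ZMod.val_lt j) (by simpa [hψ] using hij))
      · intro μ hμ
        obtain ⟨i, hi, rfl⟩ := hω.eq_pow_of_pow_eq_one ((Polynomial.mem_nthRootsFinset hqp.pos (1 : L)).1 hμ)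
        exact ⟨(i : ZMod q), Finset.mem_coe.2 (Finset.mem_univ _), by show ψ (i : ZMod q) = ω ^ i; rw [hψ, ZMod.val_natCast, Nat.mod_eq_of_lt hi]⟩
    rw [hall, ← Finset.mul_prod_erase _ _ (Finset.mem_univ (0 : ZMod q)), hψ, ZMod.val_zero, pow_zero]
    congr 1
    simp only [P]
    rw [← Finset.prod_union]
    · refine Finset.prod_congr (Finset.ext fun j => ?_) fun j _ => rfl
      simp only [Finset.mem_erase, Finset.mem_univ, and_true, Finset.mem_union, Finset.mem_filter, true_and]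
      constructor
      · exact quadraticChar_dichotomy
      · rintro h rfl; rw [quadraticChar_zero] at h; omega
    · rw [Finset.disjoint_filter]
      intro j _ h1 h2; omega
  refine ⟨(s₀ / 2) ^ 2 + q * (t₀ / 2) ^ 2, ⟨_, _, rfl⟩, ?_⟩
  apply (algebraMap K L).injective
  simp only [map_sub, map_pow, map_one, map_mul, map_add, map_natCast, map_div₀, map_ofNat, hs₀, ht₀]
  rw [hprod]
  congr 1
  simp only [s, t]
  have hqi : (q : L) * (q : L)⁻¹ = 1 := mul_inv_cancel₀ hqL
  rw [div_eq_mul_inv _ (q : L)]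
  linear_combination (-(P 1 - P (-1)) ^ 2 / 4 * q * (q : L)⁻¹ ^ 2) * hg +
    ((P 1 - P (-1)) ^ 2 / 4 * ((q : L) * (q : L)⁻¹ + 1)) * hqi

theorem three_nonsquare : ¬ IsSquare ((3 : ℕ) : ZMod 5) := by decide

theorem three_nonsquare' : ∀ w : ZMod 5, w ^ 2 ≠ 3 := by decide

theorem sq_three_mul : ∀ w : ZMod 5, w ^ 2 ≠ 3 * 1 ∧ w ^ 2 ≠ 3 * 4 := by decide

/-- Primes with the classical representation `2q = a² + 5b²`. -/
theorem two_mul_eq (q : ℕ) [Fact q.Prime] (h4 : q % 4 = 3) (h5 : q % 5 = 3) :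
    ∃ a b : ℤ, 2 * (q : ℤ) = a ^ 2 + 5 * b ^ 2 := by
  have hqp : q.Prime := Fact.out
  haveI : Fact (Nat.Prime 5) := ⟨by norm_num⟩
  have hm1 : ¬ IsSquare (-1 : ZMod q) := fun h => (ZMod.exists_sq_eq_neg_one_iff.1 h) h4
  have hfive : ¬ IsSquare ((5 : ℕ) : ZMod q) := by
    rw [← ZMod.exists_sq_eq_prime_iff_of_mod_four_eq_one (p := 5) (q := q) (by norm_num) (by omega)]
    rw [← ZMod.natCast_mod q 5, h5]
    exact three_nonsquare
  have hsq : IsSquare (-5 : ZMod q) := by
    by_contra h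
    rw [← quadraticChar_neg_one_iff_not_isSquare] at hm1 hfive h
    rw [show (-5 : ZMod q) = -1 * ((5 : ℕ) : ZMod q) by norm_num, map_mul, hm1, hfive] at h
    norm_num at h
  obtain ⟨t, ht⟩ := hsq
  set s := Nat.sqrt q
  have hs1 : s * s < q := lt_of_le_of_ne (Nat.sqrt_le q) fun e => by
    rcases Nat.prime_mul_iff.1 (e ▸ hqp : (s * s).Prime) with ⟨h, h'⟩ | ⟨h, h'⟩ <;> exact h.ne_one h'
  obtain ⟨u, v, huv, he⟩ : ∃ u v : Fin (s + 1) × Fin (s + 1), u ≠ v ∧
      ((u.1 : ℕ) : ZMod q) - t * ((u.2 : ℕ) : ZMod q) = ((v.1 : ℕ) : ZMod q) - t * ((v.2 : ℕ) : ZMod q) := by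
    refine Fintype.exists_ne_map_eq_of_card_lt _ ?_
    simp only [ZMod.card, Fintype.card_prod, Fintype.card_fin]
    exact Nat.lt_succ_sqrt q
  set x : ℤ := ((u.1 : ℕ) : ℤ) - (v.1 : ℕ) with hx
  set y : ℤ := ((u.2 : ℕ) : ℤ) - (v.2 : ℕ) with hy
  have hdvd : (q : ℤ) ∣ x ^ 2 + 5 * y ^ 2 := by
    rw [← ZMod.intCast_zmod_eq_zero_iff_dvd]
    push_cast
    have hxt : (x : ZMod q) = t * (y : ZMod q) := by
      simp only [hx, hy]; push_cast; linear_combination he
    rw [hxt]
    linear_combination (-(y : ZMod q) ^ 2) * ht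
  obtain ⟨m, hm⟩ := hdvd
  have hu1 := u.1.2; have hu2 := u.2.2; have hv1 := v.1.2; have hv2 := v.2.2
  have hbx : x * x ≤ (s : ℤ) * s := by
    have h1 : x ≤ s := by omega
    have h2 : -(s : ℤ) ≤ x := by omega
    nlinarith
  have hby : y * y ≤ (s : ℤ) * s := by
    have h1 : y ≤ s := by omega
    have h2 : -(s : ℤ) ≤ y := by omega
    nlinarith
  have hpos : 0 < x ^ 2 + 5 * y ^ 2 := by
    rcases eq_or_ne x 0 with h | h
    · rcases eq_or_ne y 0 with h' | h'
      · exact absurd (Prod.ext (Fin.ext (by omega)) (Fin.ext (by omega))) huv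
      · positivity
    · positivity
  have hq0 : (0 : ℤ) < q := by exact_mod_cast hqp.pos
  have hs1' : (s : ℤ) * s < q := by exact_mod_cast hs1
  have hm0 : 0 < m := pos_of_mul_pos_right (hm ▸ hpos) hq0.le
  have hm6 : m < 6 := by nlinarith
  have h5' : ((q : ℤ) : ZMod 5) = 3 := by
    rw [Int.cast_natCast, ← ZMod.natCast_mod q 5, h5]; rfl
  have hmod : (x : ZMod 5) ^ 2 = 3 * (m : ZMod 5) := by
    have h := congrArg (Int.cast : ℤ → ZMod 5) hm
    push_cast at h
    rw [show ((5 : ZMod 5)) = 0 from rfl, zero_mul, add_zero] at h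
    rw [h, ← h5']; push_cast; ring
  interval_cases m
  · exact absurd (by simpa using hmod) (sq_three_mul (x : ZMod 5)).1
  · exact ⟨x, y, by linarith⟩
  · have h3 : ((3 : ℤ) ∣ x - y) ∨ ((3 : ℤ) ∣ x + y) := by
      have : (3 : ℤ) ∣ (x - y) * (x + y) := ⟨(q : ℤ) - 2 * y ^ 2, by linarith⟩
      exact Int.prime_three.dvd_or_dvd this
    rcases h3 with ⟨k, hk⟩ | ⟨k, hk⟩
    · exact ⟨k + 2 * y, k, by
        have : x = 3 * k + y := by linarith
        rw [this] at hm; nlinarith⟩
    · exact ⟨k - 2 * y, k, by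
        have : x = 3 * k - y := by linarith
        rw [this] at hm; nlinarith⟩
  · exact absurd (by simpa using hmod) (sq_three_mul (x : ZMod 5)).2
  · exfalso
    have h5x : (5 : ℤ) ∣ x := by
      refine Int.Prime.dvd_pow' (n := x) (p := 5) (k := 2) (by norm_num) ?_
      exact ⟨(q : ℤ) - y ^ 2, by push_cast; linarith⟩
    obtain ⟨k, hk⟩ := h5x
    have hy' : y ^ 2 + 5 * k ^ 2 = q := by rw [hk] at hm; linarith
    have h := congrArg (Int.cast : ℤ → ZMod 5) hy'
    push_cast at h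
    rw [show ((5 : ZMod 5)) = 0 from rfl, zero_mul, add_zero] at h
    have h' : (y : ZMod 5) ^ 2 = 3 := by rw [h, ← h5']; push_cast; rfl
    exact three_nonsquare' _ h'

/-- The splitting of the quaternion algebra of `ℚ(√5)` by the `p`-th cyclotomic field. -/
theorem exists_two_sq {K : Type*} [Field K] [CharZero K] {r ζ : K} (hr : r ^ 2 = 5)
    {p : ℕ} [Fact p.Prime] (hp2 : p ≠ 2) (hp5 : p ≠ 5) (hζ : orderOf ζ = p) :
    ∃ α β : K, α ^ 2 + β ^ 2 = -1 := by
  have hpp : p.Prime := Fact.out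
  obtain ⟨n0, hn0⟩ := FiniteField.exists_nonsquare (F := ZMod p) (by rw [ZMod.ringChar_zmod_n]; exact hp2)
  have hn00 : n0 ≠ 0 := fun h => hn0 (h ▸ IsSquare.zero)
  have hc20 : Nat.Coprime 20 p :=
    ((hpp.coprime_iff_not_dvd).2 fun h => by
      rcases (Nat.Prime.dvd_mul hpp).1 (show p ∣ 4 * 5 from h) with h | h
      · exact hp2 ((Nat.prime_dvd_prime_iff_eq hpp Nat.prime_two).1 (hpp.dvd_of_dvd_pow (show p ∣ 2 ^ 2 from h)))
      · exact hp5 ((Nat.prime_dvd_prime_iff_eq hpp (by norm_num)).1 h)).symm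
  obtain ⟨a, ha1, ha2⟩ := Nat.chineseRemainder hc20 3 n0.val
  have hcop : a.Coprime (20 * p) := by
    refine Nat.Coprime.mul_right ?_ ?_
    · show Nat.gcd a 20 = 1
      rw [Nat.gcd_comm, Nat.gcd_rec, show a % 20 = 3 from ha1]; rfl
    · refine ((hpp.coprime_iff_not_dvd).2 fun h => hn00 ?_).symm
      rw [← ZMod.natCast_zmod_val n0, ← (ZMod.natCast_eq_natCast_iff a n0.val p).2 ha2,
        (ZMod.natCast_eq_zero_iff a p).2 h]
  obtain ⟨q, -, hq, hqa⟩ := Nat.forall_exists_prime_gt_and_modEq 5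
    (q := 20 * p) (a := a) (mul_ne_zero (by norm_num) hpp.ne_zero) hcop
  haveI : Fact q.Prime := ⟨hq⟩
  have h20 : q % 20 = 3 := (hqa.of_mul_right p).trans ha1
  have hqp : (q : ZMod p) = n0 := by
    rw [(ZMod.natCast_eq_natCast_iff q n0.val p).2 ((hqa.of_mul_left 20).trans ha2), ZMod.natCast_zmod_val]
  obtain ⟨a', b', hab⟩ := two_mul_eq q (by omega) (by omega)
  have hqc : (q : K) = (((a' : K) + b' * r) / 2) ^ 2 + (((a' : K) - b' * r) / 2) ^ 2 := by
    have := congrArg (Int.cast : ℤ → K) hab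
    push_cast at this
    field_simp
    linear_combination 2 * this - 2 * (b' : K) ^ 2 * hr
  -- the product along the orbit of `q`
  have hform : ∀ i : ℕ, ∃ c : K, IsForm q c ∧ ζ ^ q ^ i - 1 = (ζ - 1) * c := by
    intro i
    induction i with
    | zero => exact ⟨1, isForm_one q, by simp⟩
    | succ i ih =>
      obtain ⟨c, hc, e⟩ := ih
      obtain ⟨d, hd, e'⟩ := pow_sub_one_form q (by omega) (ζ ^ q ^ i)
      exact ⟨c * d, hc.mul hd, by rw [pow_succ q i, pow_mul, e', e]; ring⟩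
  obtain ⟨c, hc, hce⟩ := hform (p / 2)
  have hpow : ((q ^ (p / 2) : ℕ) : ZMod p) = -1 := by
    push_cast
    rw [hqp]
    exact (ZMod.pow_div_two_eq_neg_one_or_one p hn00).resolve_left fun h =>
      hn0 ((ZMod.euler_criterion p hn00).2 h)
  have hinv : ζ ^ q ^ (p / 2) * ζ = 1 := by
    rw [← pow_succ, ← orderOf_dvd_iff_pow_eq_one, hζ, ← ZMod.natCast_eq_zero_iff]
    push_cast at hpow ⊢
    rw [hpow]; ring
  have hodd : 2 * ((p + 1) / 2) = p + 1 := by
    rcases hpp.eq_two_or_odd with h | h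
    · exact absurd h hp2
    · omega
  have hsqrt : (ζ ^ ((p + 1) / 2)) ^ 2 = ζ := by
    rw [← pow_mul, mul_comm, hodd, pow_succ, ← hζ, pow_orderOf_eq_one, one_mul]
  have hζ1 : ζ - 1 ≠ 0 := sub_ne_zero.2 fun h => hpp.ne_one (by rw [← hζ, h, orderOf_one])
  have hm : IsForm q (-1 : K) := by
    have h1 : c * ζ = -1 := by
      refine mul_left_cancel₀ hζ1 ?_
      rw [← mul_assoc, ← hce]; linear_combination hinv
    rw [← h1]
    exact hc.mul ⟨ζ ^ ((p + 1) / 2), 0, by rw [hsqrt]; ring⟩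
  obtain ⟨x, w, hxw⟩ := hm
  set u := ((a' : K) + b' * r) / 2 * w
  set v := ((a' : K) - b' * r) / 2 * w
  have h3 : x ^ 2 + u ^ 2 + v ^ 2 = -1 := by
    simp only [u, v]; linear_combination -hxw - w ^ 2 * hqc
  by_cases h0 : u ^ 2 + v ^ 2 = 0
  · exact ⟨x, 0, by linear_combination h3 - h0⟩
  · refine ⟨(u - x * v) / (u ^ 2 + v ^ 2), (v + x * u) / (u ^ 2 + v ^ 2), ?_⟩
    field_simp
    linear_combination (u ^ 2 + v ^ 2) * h3

end CfsgLib.Amitsur
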