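import Cfsg.Agent.Zassenhaus.Pairs
import Cfsg.Agent.Amitsur.TwoSquares
import Mathlib.Algebra.Ring.Subring.Basic
import Mathlib.Tactic.NoncommRing
import Mathlib.Algebra.CharP.Algebra

/-!
Division rings: three obstructions.
-/

set_option autoImplicit false
set_option linter.style.haveILetI false

namespace CfsgLib.Amitsur

open CfsgLib.Zassenhaus (ofNat_nsmul)

variable {D : Type*} [DivisionRing D]

/-- A quaternion pair has no two commuting squares summing to `-1` in its centralizer. -/
theorem no_two_sq (h2 : (2 : D) ≠ 0) {I J α β : D} (hI : I * I = -1) (hJ : J * J = -1)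
    (hIJ : I * J = -(J * I)) (hαI : Commute α I) (hαJ : Commute α J) (hβI : Commute β I)
    (hβJ : Commute β J) (hαβ : Commute α β) (h : α * α + β * β = -1) : False := by
  set c := α + β * I with hc
  set c' := α - β * I with hc'
  have hJc : J * c' = c * J := by
    rw [hc, hc', mul_sub, add_mul, ← mul_assoc, ← hβJ.eq, ← hαJ.eq, mul_assoc, mul_assoc, hIJ, mul_neg]
    abel
  have hJc' : J * c = c' * J := by
    rw [hc, hc', mul_add, sub_mul, ← mul_assoc, ← hβJ.eq, ← hαJ.eq, mul_assoc, mul_assoc, hIJ, mul_neg]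
    abel
  have hcc : c * c' = -1 := by
    rw [hc, hc', add_mul, mul_sub, mul_sub]
    rw [show β * I * α = α * (β * I) by rw [mul_assoc, ← hαI.eq, ← mul_assoc, ← hαβ.eq, mul_assoc],
      show β * I * (β * I) = -(β * β) by
        rw [mul_assoc, ← mul_assoc I β I, ← hβI.eq, mul_assoc β I I, hI, mul_neg_one, mul_neg]]
    rw [← h]; abel
  have h0 : (J + c) * (J - c') = 0 := by
    rw [(fun a b => by noncomm_ring : ∀ a b : D, (J + a) * (J - b) = J * J - J * b + (a * J - a * b)) c c', hJ, hcc, hJc]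
    abel
  have hIc : Commute I c := (hαI.symm).add_right (hβI.symm.mul_right (Commute.refl I))
  have hIc' : Commute I c' := (hαI.symm).sub_right (hβI.symm.mul_right (Commute.refl I))
  have hcom : Commute I J := by
    rcases mul_eq_zero.1 h0 with e | e
    · rw [eq_neg_of_add_eq_zero_left e]; exact hIc.neg_right
    · rw [sub_eq_zero.1 e]; exact hIc'
  have : (2 : D) * (J * I) = 0 := by
    rw [two_mul]; nth_rw 1 [← hcom.eq]; rw [hIJ]; abel
  rcases mul_eq_zero.1 this with e | e
  · exact h2 e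
  · rcases mul_eq_zero.1 e with e' | e'
    · rw [e', mul_zero] at hJ; simp at hJ
    · rw [e', mul_zero] at hI; simp at hI

/-- No element of prime order other than two and five centralizes a quaternion pair and a root of five. -/
theorem no_prime [CharZero D] {I J r ζ : D} (hI : I * I = -1) (hJ : J * J = -1)
    (hIJ : I * J = -(J * I)) (hr : r * r = 5) (hrI : Commute r I) (hrJ : Commute r J)
    (hζI : Commute ζ I) (hζJ : Commute ζ J) (hrζ : Commute r ζ) {p : ℕ} [Fact p.Prime]
    (hp2 : p ≠ 2) (hp5 : p ≠ 5) (hζ : orderOf ζ = p) : False := by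
  set C := Subring.centralizer ({r, ζ} : Set D) with hC
  set K := Subring.centralizer (C : Set D) with hK
  have hrC : r ∈ C := Subring.mem_centralizer_iff.2 (by
    rintro g (rfl | rfl)
    exacts [rfl, hrζ.symm.eq])
  have hζC : ζ ∈ C := Subring.mem_centralizer_iff.2 (by
    rintro g (rfl | rfl)
    exacts [hrζ.eq, rfl])
  have hrK : r ∈ K := Subring.mem_centralizer_iff.2 fun g hg =>
    ((Subring.mem_centralizer_iff.1 hg) r (Set.mem_insert _ _)).symm
  have hζK : ζ ∈ K := Subring.mem_centralizer_iff.2 fun g hg =>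
    ((Subring.mem_centralizer_iff.1 hg) ζ (Set.mem_insert_of_mem _ rfl)).symm
  have hKC : ∀ x ∈ K, x ∈ C := fun x hx => Subring.mem_centralizer_iff.2 (by
    rintro g (rfl | rfl)
    exacts [Subring.mem_centralizer_iff.1 hx _ hrC, Subring.mem_centralizer_iff.1 hx _ hζC])
  have hcomm : ∀ x y : K, x * y = y * x := fun x y => Subtype.ext
    (Subring.mem_centralizer_iff.1 y.2 _ (hKC _ x.2))
  have hfield : IsField K :=
    { exists_pair_ne := ⟨0, 1, zero_ne_one⟩
      mul_comm := hcomm
      mul_inv_cancel := fun {x} hx => ⟨⟨(x : D)⁻¹, Subring.mem_centralizer_iff.2 fun g hg =>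
        (Commute.inv_right₀ (Subring.mem_centralizer_iff.1 x.2 g hg)).eq⟩,
        Subtype.ext (mul_inv_cancel₀ fun e => hx (Subtype.ext e))⟩ }
  letI := hfield.toField
  haveI : CharZero K := ⟨fun m n e => Nat.cast_injective (R := D) (by simpa using congrArg Subtype.val e)⟩
  obtain ⟨α, β, hαβ⟩ := exists_two_sq (K := K) (r := ⟨r, hrK⟩) (ζ := ⟨ζ, hζK⟩)
    (by rw [pow_two]; exact Subtype.ext hr) hp2 hp5
    (by rw [← orderOf_injective (K.subtype : K →* D) Subtype.val_injective]; exact hζ)
  have hIC : I ∈ C := Subring.mem_centralizer_iff.2 (by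
    rintro g (rfl | rfl)
    exacts [hrI.eq, hζI.eq])
  have hJC : J ∈ C := Subring.mem_centralizer_iff.2 (by
    rintro g (rfl | rfl)
    exacts [hrJ.eq, hζJ.eq])
  refine no_two_sq (D := D) (I := I) (J := J) (α := (α : D)) (β := (β : D)) two_ne_zero hI hJ hIJ
    ((Subring.mem_centralizer_iff.1 α.2 _ hIC).symm) ((Subring.mem_centralizer_iff.1 α.2 _ hJC).symm)
    ((Subring.mem_centralizer_iff.1 β.2 _ hIC).symm) ((Subring.mem_centralizer_iff.1 β.2 _ hJC).symm)
    (congrArg Subtype.val (hcomm α β)) ?_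
  have := congrArg Subtype.val hαβ
  simpa [pow_two] using this

/-- The cyclic algebra of `ℚ(ζ₅)` with symbol `-1` has zero divisors. -/
theorem no_swap [CharZero D] {g x : D} (hg : g ^ 5 = 1) (hg1 : g ≠ 1) (hxg : x * g = g ^ 2 * x)
    (hx : x ^ 4 = -1) : False := by
  have hgeom : g ^ 4 + g ^ 3 + g ^ 2 + g + 1 = 0 := by
    have h : (g - 1) * (g ^ 4 + g ^ 3 + g ^ 2 + g + 1) = 0 := by
      rw [show (g - 1) * (g ^ 4 + g ^ 3 + g ^ 2 + g + 1) = g ^ 5 - 1 by noncomm_ring, hg, sub_self]
    exact (mul_eq_zero.1 h).resolve_left (sub_ne_zero.2 hg1)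
  have hxp : ∀ n : ℕ, x * g ^ n = g ^ (2 * n) * x := by
    intro n
    induction n with
    | zero => simp
    | succ n ih =>
      rw [pow_succ g n, ← mul_assoc, ih, mul_assoc, hxg, ← mul_assoc, ← pow_add,
        show 2 * n + 2 = 2 * (n + 1) by ring]
  have hred : ∀ n : ℕ, g ^ (n + 5) = g ^ n := fun n => by rw [pow_add, hg, mul_one]
  have x1 : x * g = g ^ 2 * x := hxg
  have x2 : x * g ^ 2 = g ^ 4 * x := hxp 2
  have x3 : x * g ^ 3 = g * x := by rw [hxp 3, hred 1, pow_one]
  have x4 : x * g ^ 4 = g ^ 3 * x := by rw [hxp 4, hred 3]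
  -- the root of five
  set r := 2 * (g + g ^ 4) + 1 with hr
  set v := x * x with hv
  have hr5 : r * r = 5 := by
    have e1 : g * g ^ 4 = 1 := by rw [← pow_succ', hg]
    have e2 : g ^ 4 * g = 1 := by rw [← pow_succ, hg]
    have e3 : g ^ 4 * g ^ 4 = g ^ 3 := by rw [← pow_add, hred 3]
    have e4 : g * g = g ^ 2 := (pow_two g).symm
    calc r * r = 4 * (g * g + g * g ^ 4 + g ^ 4 * g + g ^ 4 * g ^ 4) + 4 * (g + g ^ 4) + 1 := by
          rw [hr]; noncomm_ring [ofNat_nsmul]
      _ = 4 * (g ^ 4 + g ^ 3 + g ^ 2 + g + 1) + 5 := by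
          rw [e1, e2, e3, e4]; noncomm_ring [ofNat_nsmul]
      _ = 5 := by rw [hgeom, mul_zero, zero_add]
  have hxr : x * r = -(r * x) := by
    calc x * r = 2 * (x * g + x * g ^ 4) + x := by rw [hr]; noncomm_ring [ofNat_nsmul]
      _ = 2 * ((g ^ 4 + g ^ 3 + g ^ 2 + g + 1) * x) - r * x := by
          rw [x1, x4, hr]; noncomm_ring [ofNat_nsmul]
      _ = -(r * x) := by rw [hgeom, zero_mul, mul_zero, zero_sub]
  set h := g - g ^ 4 with hh
  set h' := g ^ 2 - g ^ 3 with hh'
  have hxh : x * h = h' * x := by rw [hh, hh', mul_sub, sub_mul, x1, x4]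
  have hxh' : x * h' = -(h * x) := by rw [hh, hh', mul_sub, sub_mul, x2, x3, neg_sub]
  have hvh : v * h = -(h * v) := by
    rw [hv, mul_assoc, hxh, ← mul_assoc, hxh', neg_mul, mul_assoc]
  have hvh' : v * h' = -(h' * v) := by
    rw [hv, mul_assoc, hxh', mul_neg, ← mul_assoc, hxh, mul_assoc]
  have hgc : ∀ m n : ℕ, g ^ m * g ^ n = g ^ n * g ^ m := fun m n => by rw [← pow_add, ← pow_add, add_comm]
  have hhc : Commute h h' := by
    have c1 : Commute g h' := ((Commute.self_pow g 2).sub_right (Commute.self_pow g 3))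
    have c4 : Commute (g ^ 4) h' := ((Commute.pow_pow_self g 4 2).sub_right (Commute.pow_pow_self g 4 3))
    exact c1.sub_left c4
  have hhh : h * h + h' * h' = -5 := by
    have e : h * h + h' * h' = (g * g + g ^ 4 * g ^ 4 + g ^ 2 * g ^ 2 + g ^ 3 * g ^ 3)
        - (g * g ^ 4 + g ^ 4 * g + g ^ 2 * g ^ 3 + g ^ 3 * g ^ 2) := by
      rw [hh, hh']; noncomm_ring
    rw [e, ← pow_add, ← pow_add, ← pow_add, ← pow_add, ← pow_add, ← pow_succ', ← pow_succ,
      show g * g = g ^ 2 from (pow_two g).symm, hred 3, show 2 + 3 = 5 from rfl, hg,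
      show (3 + 3) = 1 + 5 from rfl, hred 1, pow_one]
    calc g ^ 2 + g ^ 3 + g ^ (2 + 2) + g - (1 + 1 + 1 + 1)
        = (g ^ 4 + g ^ 3 + g ^ 2 + g + 1) - 5 := by noncomm_ring [ofNat_nsmul]
      _ = -5 := by rw [hgeom, zero_sub]
  have hvv : v * v = -1 := by rw [hv, ← hx]; noncomm_ring
  set W := h + v * h' with hW
  have hvW : v * W = -(W * v) := by
    rw [hW, mul_add, add_mul, hvh, neg_add, mul_assoc v h' v, ← neg_eq_iff_eq_neg.2 hvh', mul_neg,
      neg_neg]
  have hWW : W * W = -5 := by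
    calc W * W = h * h + (h * v) * h' + v * (h' * h) + v * (h' * v) * h' := by
          rw [hW]; noncomm_ring
      _ = h * h + h' * h' := by
          rw [← neg_eq_iff_eq_neg.2 hvh, ← neg_eq_iff_eq_neg.2 hvh', ← hhc.eq, mul_neg, ← mul_assoc v v h', hvv]
          noncomm_ring
      _ = -5 := hhh
  have hrg : Commute r g :=
    (((Commute.ofNat_left 2 g).mul_left ((Commute.refl g).add_left (Commute.pow_self g 4)))).add_left
      (Commute.one_left g)
  have hrh : Commute r h := hrg.sub_right (hrg.pow_right 4)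
  have hrh' : Commute r h' := (hrg.pow_right 2).sub_right (hrg.pow_right 3)
  have hrv : Commute r v := by
    show r * v = v * r
    rw [hv, mul_assoc, hxr, mul_neg, ← mul_assoc x r x, hxr, neg_mul, neg_neg, mul_assoc]
  have hrW : Commute r W := hrh.add_right (hrv.mul_right hrh')
  set t := x * (1 + v) with ht
  set e := (3 + v) * W with he
  have hxv : Commute x v := (Commute.refl x).mul_right (Commute.refl x)
  have htv : Commute t v := hxv.mul_left ((Commute.one_left v).add_left (Commute.refl v))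
  have htW : Commute t W := by
    show t * W = W * t
    have h1 : h * x = -(x * h') := by rw [hxh', neg_neg]
    have h2 : h' * x = x * h := hxh.symm
    have h3 : v * h * v = h := by
      rw [hvh, neg_mul, mul_assoc, hvv, mul_neg_one, neg_neg]
    calc t * W = x * (h + v * h' + v * h + v * v * h') := by rw [ht, hW]; noncomm_ring
      _ = x * (h - h' + v * h' + v * h) := by rw [hvv]; noncomm_ring
      _ = x * (-h' - h' * v + v * h + v * h * v) := by rw [h3, hvh']; noncomm_ring
      _ = (x * -h') * (1 + v) + x * (v * h) * (1 + v) := by noncomm_ring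
      _ = (h * x) * (1 + v) + v * (h' * x) * (1 + v) := by
          rw [h1, h2, ← mul_assoc x v, hxv.eq, mul_neg, mul_assoc v x h]
      _ = W * t := by rw [ht, hW]; noncomm_ring
  have hte : Commute t e := ((Commute.ofNat_right t 3).add_right htv).mul_right htW
  have hre : Commute r e := ((Commute.ofNat_right r 3).add_right hrv).mul_right hrW
  have htt : t * t = -2 := by
    calc t * t = x * ((1 + v) * x) * (1 + v) := by rw [ht]; noncomm_ring
      _ = x * (x * (1 + v)) * (1 + v) := by rw [((Commute.one_left x).add_left hxv.symm).eq]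
      _ = v * 1 + 2 * (v * v) + v * (v * v) := by rw [hv]; noncomm_ring [ofNat_nsmul]
      _ = -2 := by rw [hvv]; noncomm_ring [ofNat_nsmul]
  have hee : e * e = -50 := by
    have h1 : W * (3 + v) = (3 - v) * W := by
      rw [mul_add, sub_mul, hvW, sub_neg_eq_add, (Commute.ofNat_right W 3).eq]
    calc e * e = (3 + v) * (W * (3 + v)) * W := by rw [he]; noncomm_ring
      _ = ((3 + v) * (3 - v)) * (W * W) := by rw [h1]; noncomm_ring
      _ = (9 - v * v) * (W * W) := by noncomm_ring [ofNat_nsmul]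
      _ = -50 := by rw [hvv, hWW]; noncomm_ring [ofNat_nsmul]
  have hr0 : r ≠ 0 := fun e0 => by
    rw [e0, mul_zero] at hr5; norm_num at hr5
  have htr : t * r = -(r * t) := by
    rw [ht, mul_assoc, ← ((Commute.one_right r).add_right hrv).eq, ← mul_assoc, hxr, neg_mul, mul_assoc]
  have hzero : (e - 5 * t) * (e + 5 * t) = 0 := by
    calc (e - 5 * t) * (e + 5 * t) = e * e + 5 * (e * t - t * e) - 25 * (t * t) := by
          noncomm_ring [ofNat_nsmul]
      _ = 0 := by rw [hte.eq, hee, htt]; noncomm_ring [ofNat_nsmul]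
  have hcomm : Commute r (5 * t) := by
    rcases mul_eq_zero.1 hzero with e0 | e0
    · rw [← sub_eq_zero.1 e0]; exact hre
    · have : 5 * t = -e := eq_neg_of_add_eq_zero_right e0
      rw [this]; exact hre.neg_right
  have h5 : r * t = t * r := by
    have := hcomm.eq
    rw [← mul_assoc, (Commute.ofNat_right r 5).eq, mul_assoc, mul_assoc] at this
    exact mul_left_cancel₀ (by norm_num) this
  have h0 : (2 : D) * (r * t) = 0 := by
    rw [two_mul]; nth_rw 2 [h5]; rw [htr]; abel
  rcases mul_eq_zero.1 h0 with e0 | e0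
  · norm_num at e0
  · rcases mul_eq_zero.1 e0 with e1 | e1
    · exact hr0 e1
    · rw [e1, mul_zero] at htt; norm_num at htt

end CfsgLib.Amitsur
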