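import Cfsg.Agent.Zassenhaus.Main

/-!
Facts about `SL(2,5)` used in the classification of non-solvable subgroups of division rings.
-/

set_option autoImplicit false
set_option linter.style.haveILetI false

namespace CfsgLib.Amitsur

open Cfsg.Agent.S3374 (quad quad_mul quad_mem mulMod elts quad_one)
open CfsgLib.Zassenhaus (SL25 quad_injective lowerShear unique_involution_sl)

/-- The upper shear. -/
abbrev upper : SL25 := Cfsg.Agent.S3374.shear

/-- Powers of quadruples. -/
def pw : ℕ → ℕ × ℕ × ℕ × ℕ → ℕ × ℕ × ℕ × ℕ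
  | 0, _ => (1, 0, 0, 1)
  | n + 1, x => mulMod 5 (pw n x) x

theorem quad_pow (m : SL25) : ∀ n : ℕ, quad (m ^ n) = pw n (quad m)
  | 0 => by rw [pow_zero, quad_one]; rfl
  | n + 1 => by rw [pow_succ, quad_mul, quad_pow m n]; rfl

/-- The candidate `m` squares to the central involution after sandwiching. -/
def sand (x : ℕ × ℕ × ℕ × ℕ) : ℕ × ℕ × ℕ × ℕ :=
  pw 2 (mulMod 5 (mulMod 5 (1, 1, 0, 1) (pw 4 x)) (1, 1, 0, 1))

theorem facts :
    (∀ x ∈ elts, mulMod 5 x (1, 1, 0, 1) = mulMod 5 (1, 1, 0, 1) x → pw 10 x = (1, 0, 0, 1)) ∧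
    (∀ x ∈ elts, pw 5 x = (1, 0, 0, 1) → x ≠ (1, 0, 0, 1) →
      ∃ j ∈ [1, 2, 3, 4], ∃ s ∈ elts, mulMod 5 x s = mulMod 5 s (pw j (1, 1, 0, 1))) := by
  decide +kernel

theorem facts' :
    (∀ x ∈ elts, pw 5 x = (1, 0, 0, 1) → x ≠ (1, 0, 0, 1) → sand x = (4, 0, 0, 4) →
      ∃ i ∈ List.range 5, mulMod 5 x (pw i (1, 1, 0, 1)) = mulMod 5 (pw i (1, 1, 0, 1)) (1, 0, 1, 1)) ∧
    (∀ i ∈ List.range 5, mulMod 5 (pw (2 * i) (1, 1, 0, 1)) (1, 0, 1, 1) =
      mulMod 5 (1, 0, 1, 1) (pw (2 * i) (1, 1, 0, 1)) → i = 0) := by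
  decide +kernel

theorem gen_facts :
    ∀ x ∈ elts, ∃ a ∈ List.range 5, ∃ b ∈ List.range 5, ∃ c ∈ List.range 5, ∃ d ∈ List.range 5,
      x = mulMod 5 (mulMod 5 (mulMod 5 (pw a (1, 1, 0, 1)) (pw b (1, 0, 1, 1))) (pw c (1, 1, 0, 1)))
        (pw d (1, 0, 1, 1)) := by
  decide +kernel

theorem upper_pow_five : upper ^ 5 = 1 ∧ upper ≠ 1 :=
  ⟨quad_injective (by rw [quad_pow]; decide +kernel), by decide +kernel⟩

/-- The element `diag(2,3)`. -/
def diag : SL25 := ⟨!![2, 0; 0, 3], by decide +kernel⟩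

theorem diag_conj : diag * upper = upper ^ 4 * diag :=
  quad_injective (by rw [quad_mul, quad_mul, quad_pow]; decide +kernel)

theorem centralizer_upper {m : SL25} (h : m * upper = upper * m) : m ^ 10 = 1 := by
  refine quad_injective ?_
  rw [quad_pow, quad_one]
  refine facts.1 _ (quad_mem m) ?_
  rw [← CfsgLib.Zassenhaus.quad_shears.1, ← quad_mul, ← quad_mul, h]

theorem exists_conj_upper {m : SL25} (h5 : m ^ 5 = 1) (h1 : m ≠ 1) :
    ∃ j ∈ [1, 2, 3, 4], ∃ s : SL25, m * s = s * upper ^ j := by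
  obtain ⟨j, hj, x, hx, e⟩ := facts.2 _ (quad_mem m) (by rw [← quad_pow, h5, quad_one])
    (fun e => h1 (quad_injective (e.trans quad_one.symm)))
  obtain ⟨s, rfl⟩ : ∃ s : SL25, quad s = x := by
    have hf : (Finset.univ.image quad) = elts.toFinset := by decide +kernel
    have := (hf ▸ List.mem_toFinset.2 hx : x ∈ Finset.univ.image quad)
    simpa using this
  refine ⟨j, hj, s, quad_injective ?_⟩
  rw [quad_mul, quad_mul, quad_pow, CfsgLib.Zassenhaus.quad_shears.1]
  exact e

/-- An automorphism of square one fixing the upper shear is trivial. -/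
theorem mulAut_eq_one (φ : SL25 ≃* SL25) (hU : φ upper = upper) (h2 : ∀ m, φ (φ m) = m) (m : SL25) :
    φ m = m := by
  have hne : quad lowerShear ≠ (1, 0, 0, 1) := by decide +kernel
  set L := φ lowerShear with hL
  have hL5 : pw 5 (quad L) = (1, 0, 0, 1) := by
    have h : lowerShear ^ 5 = 1 := quad_injective (by rw [quad_pow]; decide +kernel)
    rw [← quad_pow, hL, ← map_pow, h, map_one, quad_one]
  have hL1 : quad L ≠ (1, 0, 0, 1) := fun e => hne (by
    have : L = 1 := quad_injective (e.trans quad_one.symm)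
    rw [show lowerShear = 1 from φ.injective (by rw [← hL, this, map_one]), quad_one])
  set z : SL25 := (upper * lowerShear ^ 4 * upper) ^ 2 with hz
  have hzq : quad z = (4, 0, 0, 4) := by
    rw [hz, quad_pow, quad_mul, quad_mul, quad_pow]; decide +kernel
  have hz1 : z ≠ 1 := fun e => by rw [e, quad_one] at hzq; exact absurd hzq (by decide)
  have hz2 : z * z = 1 := quad_injective (by rw [quad_mul, hzq, quad_one]; rfl)
  have hφz : φ z = z := unique_involution_sl (by rw [← map_mul, hz2, map_one]) hz2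
    (fun e => hz1 (φ.injective (e.trans (map_one φ).symm))) hz1
  have hs : sand (quad L) = (4, 0, 0, 4) := by
    rw [← hzq, ← hφz, hz, map_pow, map_mul, map_mul, map_pow, hU, ← hL, quad_pow, quad_mul, quad_mul,
      quad_pow, CfsgLib.Zassenhaus.quad_shears.1]
    rfl
  obtain ⟨i, hi, hLi⟩ := facts'.1 _ (quad_mem L) hL5 hL1 hs
  have hLi' : L * upper ^ i = upper ^ i * lowerShear := quad_injective (by
    rw [quad_mul, quad_mul, quad_pow, CfsgLib.Zassenhaus.quad_shears.1, CfsgLib.Zassenhaus.quad_shears.2]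
    exact hLi)
  have h3 : lowerShear * upper ^ i = upper ^ i * L := by
    have := congrArg φ hLi'
    rwa [map_mul, map_mul, map_pow, hU, hL, h2] at this
  have h4 : upper ^ (2 * i) * lowerShear = lowerShear * upper ^ (2 * i) := by
    rw [two_mul, pow_add, mul_assoc, ← hLi', ← mul_assoc, ← h3, mul_assoc]
  have hi0 : i = 0 := by
    refine facts'.2 i hi ?_
    have := congrArg quad h4
    rwa [quad_mul, quad_mul, quad_pow, CfsgLib.Zassenhaus.quad_shears.1,
      CfsgLib.Zassenhaus.quad_shears.2] at this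
  subst hi0
  rw [pow_zero, mul_one, one_mul] at hLi'
  obtain ⟨a, -, b, -, c, -, d, -, e⟩ := gen_facts _ (quad_mem m)
  have hm : m = upper ^ a * lowerShear ^ b * upper ^ c * lowerShear ^ d := quad_injective (by
    rw [quad_mul, quad_mul, quad_mul, quad_pow, quad_pow, quad_pow, quad_pow,
      CfsgLib.Zassenhaus.quad_shears.1, CfsgLib.Zassenhaus.quad_shears.2]
    exact e)
  rw [hm]
  simp only [map_mul, map_pow, hU]
  rw [← hL, hLi']

end CfsgLib.Amitsur
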