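import Cfsg.Agent.Zassenhaus.Main
import Cfsg.Agent.S4293
import Cfsg.Agent.Amitsur.SL25Facts
import Cfsg.Agent.Amitsur.DivRing
import Mathlib.RingTheory.LittleWedderburn
import Mathlib.RingTheory.Finiteness.Basic

/-!
Non-solvable finite subgroups of division rings.
-/

set_option autoImplicit false
set_option linter.unusedSectionVars false
set_option linter.style.haveILetI false

namespace CfsgLib.Amitsur

open Subgroup
open CfsgLib.Zassenhaus (SL25 IsFpfAlg anti xi ofNat_nsmul)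

variable {D : Type*} [DivisionRing D]

/-- In positive characteristic finite subgroups are commutative. -/
theorem comm_of_ringChar (H : Subgroup Dˣ) [Finite H] (p : ℕ) [Fact p.Prime] [CharP D p] (x y : H) :
    x * y = y * x := by
  letI : Algebra (ZMod p) D := ZMod.algebra D p
  set f : H →* D := (Units.coeHom D).comp H.subtype
  set A := Algebra.adjoin (ZMod p) (Set.range f) with hA
  have hspan : Subalgebra.toSubmodule A = Submodule.span (ZMod p) (Set.range f) := by
    rw [hA, Algebra.adjoin_eq_span]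
    congr 1
    exact congrArg SetLike.coe (Submonoid.closure_eq (MonoidHom.mrange f))
  haveI : Module.Finite (ZMod p) (Submodule.span (ZMod p) (Set.range f)) :=
    Module.Finite.span_of_finite _ (Set.finite_range f)
  haveI : Finite (Submodule.span (ZMod p) (Set.range f)) := Module.finite_of_finite (ZMod p)
  haveI : Finite A := by
    show Finite (Subalgebra.toSubmodule A)
    rw [hspan]; infer_instance
  have hf : IsField A := Finite.isDomain_to_isField A
  have hmem : ∀ z : H, f z ∈ A := fun z => Algebra.subset_adjoin ⟨z, rfl⟩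
  have h := congrArg Subtype.val (hf.mul_comm ⟨_, hmem x⟩ ⟨_, hmem y⟩)
  exact Subtype.ext (Units.ext h)

/-- The inclusion into the division ring. -/
def incl (H : Subgroup Dˣ) : H →* D := (Units.coeHom D).comp H.subtype

theorem incl_injective (H : Subgroup Dˣ) : Function.Injective (incl H) :=
  Units.val_injective.comp Subtype.val_injective

theorem incl_fpf (H : Subgroup Dˣ) : IsFpfAlg (incl H) := fun g hg => by
  rw [isUnit_iff_ne_zero, sub_ne_zero]
  exact fun e => hg (incl_injective H (e.trans (map_one _).symm))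

variable [CharZero D]

theorem commute_scalar {q : ℚ} (x : D) : Commute (q : D) x := Rat.cast_commute q x

/-- A pair with `ab` of order ten gives a quaternion pair and a root of five. -/
theorem exists_frame (H : Subgroup Dˣ) [Finite H] {a b : H} (ha : orderOf a = 3) (hb : orderOf b = 3)
    (h10 : (a * b) ^ 10 = 1) (h5 : (a * b) ^ 5 ≠ 1) :
    ∃ I J r : D, I * I = -1 ∧ J * J = -1 ∧ I * J = -(J * I) ∧ r * r = 5 ∧ Commute r I ∧ Commute r J ∧
      ∀ c : D, Commute c (incl H a) → Commute c (incl H b) → Commute c I ∧ Commute c J ∧ Commute c r := by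
  have hfp := incl_fpf H
  set σ := incl H with hσ
  set R := anti σ a b with hR
  set t := σ (a * b) with ht
  set t' := σ (a * b)⁻¹ with ht'
  have ht5 : t ^ 5 = -1 := by
    have h1 : σ ((a * b) ^ 5) = -1 := hfp.neg_one (orderOf_eq_prime (p := 2) (by rw [← pow_mul, h10]) h5)
    rw [ht, ← map_pow, h1]
  have htne : t + 1 ≠ 0 := by
    intro e
    have h1 : t = -1 := eq_neg_of_add_eq_zero_left e
    have h2 : σ b = -σ a⁻¹ := by
      calc σ b = σ a⁻¹ * t := by rw [ht, ← map_mul, ← mul_assoc, inv_mul_cancel, one_mul]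
        _ = -σ a⁻¹ := by rw [h1, mul_neg_one]
    have h3 : σ (b ^ 3) = 1 := by rw [← hb, pow_orderOf_eq_one, map_one]
    rw [map_pow, h2, neg_pow, ← map_pow, inv_pow, show a ^ 3 = 1 by rw [← ha]; exact pow_orderOf_eq_one a,
      inv_one, map_one, mul_one] at h3
    norm_num at h3
  have h4 : t ^ 4 - t ^ 3 + t ^ 2 - t + 1 = 0 := by
    have : (t + 1) * (t ^ 4 - t ^ 3 + t ^ 2 - t + 1) = 0 := by
      rw [show (t + 1) * (t ^ 4 - t ^ 3 + t ^ 2 - t + 1) = t ^ 5 + 1 by noncomm_ring, ht5, neg_add_cancel]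
    exact (mul_eq_zero.1 this).resolve_left htne
  have htt' : t * t' = 1 := by rw [ht, ht', ← map_mul, mul_inv_cancel, map_one]
  have ht't : t' * t = 1 := by rw [ht, ht', ← map_mul, inv_mul_cancel, map_one]
  have hu : (t + t') * (t + t') - (t + t') - 1 = 0 := by
    have htne0 : t ≠ 0 := fun e => by rw [e, zero_mul] at htt'; exact zero_ne_one htt'
    have : t * ((t + t') * (t + t') - (t + t') - 1) * t = 0 := by
      rw [show t * ((t + t') * (t + t') - (t + t') - 1) * t =
        t * t * t * t + t * t * (t' * t) + t * t' * t * t + (t * t') * (t' * t) - t * t * t - t * t' * t - t * t by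
        noncomm_ring, htt', ht't, ← h4]
      noncomm_ring
    rcases mul_eq_zero.1 this with e | e
    · exact (mul_eq_zero.1 e).resolve_left htne0
    · exact absurd e htne0
  have hR20 : R * R = 20 := by
    rw [hR, hfp.anti_eq ha hb, ← ht, ← ht']
    calc (4 * (t + t') - 2) * (4 * (t + t') - 2) = 16 * ((t + t') * (t + t') - (t + t') - 1) + 20 := by
          noncomm_ring [ofNat_nsmul]
      _ = 20 := by rw [hu, mul_zero, zero_add]
  have hRX : Commute R (xi σ a) := hfp.anti_commute ha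
  have hRY : Commute R (xi σ b) := by
    rw [hR, CfsgLib.Zassenhaus.anti_comm]; exact hfp.anti_commute hb
  set P := xi σ a with hP
  set Y := xi σ b with hY
  have hPP : P * P = -3 := hfp.xi_sq ha
  have hYY : Y * Y = -3 := hfp.xi_sq hb
  have hPY : P * Y + Y * P = R := rfl
  set Q := 6 * Y + R * P with hQ
  have hQQ : Q * Q = -48 := by
    calc Q * Q = 36 * (Y * Y) + 6 * (Y * R * P) + 6 * (R * (P * Y)) + R * (P * R) * P := by
          rw [hQ]; noncomm_ring [ofNat_nsmul]
      _ = 36 * (Y * Y) + 6 * (R * (P * Y + Y * P)) + R * R * (P * P) := by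
          rw [← hRY.eq, ← hRX.eq]; noncomm_ring [ofNat_nsmul]
      _ = -48 := by rw [hPY, hPP, hYY, hR20]; noncomm_ring [ofNat_nsmul]
  have hPQ : P * Q = -(Q * P) := by
    rw [← add_eq_zero_iff_eq_neg]
    calc P * Q + Q * P = 6 * (P * Y + Y * P) + ((P * R) * P + R * (P * P)) := by
          rw [hQ]; noncomm_ring [ofNat_nsmul]
      _ = 0 := by rw [hPY, ← hRX.eq, mul_assoc R P P, hPP]; noncomm_ring [ofNat_nsmul]
  have hRQ : Commute R Q := ((Commute.ofNat_right R 6).mul_right hRY).add_right ((Commute.refl R).mul_right hRX)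
  set x := R + 2 with hx
  set y := R - 2 with hy
  have hxP : Commute x P := hRX.add_left (Commute.ofNat_left 2 P)
  have hyP : Commute y P := hRX.sub_left (Commute.ofNat_left 2 P)
  have hxQ : Commute x Q := hRQ.add_left (Commute.ofNat_left 2 Q)
  have hyQ : Commute y Q := hRQ.sub_left (Commute.ofNat_left 2 Q)
  have hxy : Commute x y := ((Commute.refl R).sub_right (Commute.ofNat_right R 2)).add_left
    ((Commute.ofNat_left 2 R).sub_right (Commute.refl 2))
  set n := (48 : D)⁻¹ with hn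
  have hnc : ∀ w : D, Commute n w := fun w => (Commute.ofNat_left 48 w).inv_left₀
  set I' := 4 * (x * P) + y * Q with hI'
  set J' := x * Q - 4 * (y * P) with hJ'
  have m1 : ∀ {c d u w : D}, Commute d u → (c * u) * (d * w) = c * d * (u * w) := fun {c d u w} hc => by
    rw [mul_assoc, ← mul_assoc u d w, ← hc.eq, mul_assoc d u w, ← mul_assoc]
  have hI2 : I' * I' = -(48 * 48) := by
    calc I' * I' = 16 * ((x * P) * (x * P)) + 4 * ((x * P) * (y * Q)) + 4 * ((y * Q) * (x * P))
          + (y * Q) * (y * Q) := by rw [hI']; noncomm_ring [ofNat_nsmul]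
      _ = 16 * (x * x * (P * P)) + 4 * (x * y * (P * Q)) + 4 * (x * y * (Q * P)) + y * y * (Q * Q) := by
          rw [m1 hxP, m1 hyP, m1 hxQ, m1 hyQ, hxy.eq]
      _ = -48 * (x * x + y * y) := by rw [hPP, hQQ, hPQ]; noncomm_ring [ofNat_nsmul]
      _ = -(48 * 48) := by
          rw [show x * x + y * y = 2 * (R * R) + 8 by rw [hx, hy]; noncomm_ring [ofNat_nsmul], hR20]
          noncomm_ring [ofNat_nsmul]
  have hJ2 : J' * J' = -(48 * 48) := by
    calc J' * J' = (x * Q) * (x * Q) - 4 * ((x * Q) * (y * P)) - 4 * ((y * P) * (x * Q))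
          + 16 * ((y * P) * (y * P)) := by rw [hJ']; noncomm_ring [ofNat_nsmul]
      _ = x * x * (Q * Q) - 4 * (x * y * (Q * P)) - 4 * (x * y * (P * Q)) + 16 * (y * y * (P * P)) := by
          rw [m1 hxP, m1 hyP, m1 hxQ, m1 hyQ, hxy.eq]
      _ = -48 * (x * x + y * y) := by rw [hPP, hQQ, hPQ]; noncomm_ring [ofNat_nsmul]
      _ = -(48 * 48) := by
          rw [show x * x + y * y = 2 * (R * R) + 8 by rw [hx, hy]; noncomm_ring [ofNat_nsmul], hR20]
          noncomm_ring [ofNat_nsmul]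
  have hIJ' : I' * J' + J' * I' = 0 := by
    calc I' * J' + J' * I' = 4 * ((x * P) * (x * Q)) - 16 * ((x * P) * (y * P)) + (y * Q) * (x * Q)
          - 4 * ((y * Q) * (y * P)) + 4 * ((x * Q) * (x * P)) + (x * Q) * (y * Q)
          - 16 * ((y * P) * (x * P)) - 4 * ((y * P) * (y * Q)) := by
            rw [hI', hJ']; noncomm_ring [ofNat_nsmul]
      _ = 4 * (x * x * (P * Q)) - 16 * (x * y * (P * P)) + x * y * (Q * Q)
          - 4 * (y * y * (Q * P)) + 4 * (x * x * (Q * P)) + x * y * (Q * Q)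
          - 16 * (x * y * (P * P)) - 4 * (y * y * (P * Q)) := by
            rw [m1 hxP, m1 hyP, m1 hxQ, m1 hyQ, m1 hxP, m1 hyP, m1 hxQ, m1 hyQ, hxy.eq]
      _ = 0 := by rw [hPP, hQQ, hPQ]; noncomm_ring [ofNat_nsmul]
  have h48 : n * 48 = 1 := inv_mul_cancel₀ (by norm_num)
  have hsq : ∀ w : D, w * w = -(48 * 48) → (n * w) * (n * w) = -1 := fun w hw => by
    rw [mul_assoc, ← mul_assoc w n w, ← (hnc w).eq, mul_assoc n w w, hw, mul_neg, mul_neg,
      ← mul_assoc n 48 48, h48, one_mul, h48]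
  have hhalf : ∀ w : D, Commute (2 : D)⁻¹ w := fun w => (Commute.ofNat_left 2 w).inv_left₀
  refine ⟨n * I', n * J', 2⁻¹ * R, hsq _ hI2, hsq _ hJ2, ?_, ?_, ?_, ?_, ?_⟩
  · have key : ∀ u w : D, (n * u) * (n * w) = n * n * (u * w) := fun u w => m1 (hnc u)
    rw [key, key, eq_neg_of_add_eq_zero_left hIJ', mul_neg]
  · rw [m1 (hhalf R), hR20, show (20 : D) = 2 * 2 * 5 by norm_num,
      show ((2 : D)⁻¹ * 2⁻¹) * (2 * 2 * 5) = (2⁻¹ * (2⁻¹ * 2) * 2) * 5 by noncomm_ring,
      inv_mul_cancel₀ two_ne_zero, mul_one, inv_mul_cancel₀ two_ne_zero, one_mul]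
  · refine ((hhalf _).mul_left ?_)
    refine (hnc R).symm.mul_right ?_
    exact ((Commute.ofNat_right R 4).mul_right
      (((Commute.refl R).add_right (Commute.ofNat_right R 2)).mul_right hRX)).add_right
      (((Commute.refl R).sub_right (Commute.ofNat_right R 2)).mul_right hRQ)
  · refine ((hhalf _).mul_left ?_)
    refine (hnc R).symm.mul_right ?_
    exact (((Commute.refl R).add_right (Commute.ofNat_right R 2)).mul_right hRQ).sub_right
      ((Commute.ofNat_right R 4).mul_right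
      (((Commute.refl R).sub_right (Commute.ofNat_right R 2)).mul_right hRX))
  · intro c hca hcb
    have hcP : Commute c P := (((Commute.ofNat_right c 2).mul_right hca)).add_right (Commute.one_right c)
    have hcY : Commute c Y := (((Commute.ofNat_right c 2).mul_right hcb)).add_right (Commute.one_right c)
    have hcR : Commute c R := (hcP.mul_right hcY).add_right (hcY.mul_right hcP)
    have hcQ : Commute c Q := ((Commute.ofNat_right c 6).mul_right hcY).add_right (hcR.mul_right hcP)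
    have hcx : Commute c x := hcR.add_right (Commute.ofNat_right c 2)
    have hcy : Commute c y := hcR.sub_right (Commute.ofNat_right c 2)
    exact ⟨(hnc c).symm.mul_right (((Commute.ofNat_right c 4).mul_right (hcx.mul_right hcP)).add_right (hcy.mul_right hcQ)),
      (hnc c).symm.mul_right ((hcx.mul_right hcQ).sub_right ((Commute.ofNat_right c 4).mul_right (hcy.mul_right hcP))),
      (hhalf c).symm.mul_right hcR⟩

/-- An odd power of an element outside a subgroup of index two stays outside. -/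
theorem two_part {G : Type*} [Group G] [Finite G] {S : Subgroup G} (hidx : S.index = 2) {n : G}
    (hn : n ∉ S) : ∃ m k : ℕ, Odd m ∧ n ^ m ∉ S ∧ orderOf (n ^ m) = 2 ^ k := by
  obtain ⟨k, m, hm, he⟩ := Nat.exists_eq_two_pow_mul_odd (orderOf_pos n).ne'
  refine ⟨m, k, hm, fun h => hn ?_, ?_⟩
  · obtain ⟨j, rfl⟩ := hm
    rw [pow_succ, pow_mul] at h
    exact (mul_mem_cancel_left (pow_mem (sq_mem_of_index_two hidx n) j)).1 h
  · rw [orderOf_pow_of_dvd hm.pos.ne' (by rw [he]; exact dvd_mul_left _ _), he,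
      Nat.mul_div_cancel _ hm.pos]

/-- **Amitsur**: a non-solvable finite subgroup of a division ring is `SL(2,5)`. -/
theorem main_charZero {H : Subgroup Dˣ} [Finite H] (hH : ¬ Group.IsSolvable H) :
    Nonempty (H ≃* SL25) := by
  have hne : H ≠ ⊥ := fun e => hH (by subst e; infer_instance)
  obtain ⟨L, iL, iF, C, hC, ⟨eC⟩⟩ := Cfsg.Agent.S4293.result H hne
  obtain ⟨d, τ, hd, hτ⟩ := CfsgLib.Zassenhaus.exists_rep_of_complement hC eC
  haveI : Nonempty (Fin d) := ⟨⟨0, hd⟩⟩
  obtain ⟨a, b, ha, hb, hR⟩ := CfsgLib.Zassenhaus.exists_pair_of_not_solvable hτ hH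
  have h5 : τ ((a * b) ^ 5) = -1 := hτ.sum_root ha hb hR
  have h10 : (a * b) ^ 10 = 1 := hτ.injective (by
    rw [show (10 : ℕ) = 5 + 5 from rfl, pow_add, map_mul, h5, neg_mul_neg, one_mul, map_one])
  have h5' : (a * b) ^ 5 ≠ 1 := fun e =>
    CfsgLib.Zassenhaus.neg_one_ne_one (A := Matrix (Fin d) (Fin d) ℂ) (by rw [← h5, e, map_one])
  obtain ⟨I, J, r, hI, hJ, hIJ, hr, hrI, hrJ, hcen⟩ := exists_frame H ha hb h10 h5'
  obtain ⟨G₀, hG₀n, hidx, S, M, hSM, hdisj, hcomm, ⟨e⟩, -, hM30⟩ :=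
    CfsgLib.Zassenhaus.nonsolvable_structure hτ hH
  -- nothing of prime order centralizes `S` besides its centre
  have hord : ∀ g : H, orderOf g = 3 → g ∈ S := by
    intro g hg
    have hg3 : g ^ 3 = 1 := by rw [← hg]; exact pow_orderOf_eq_one g
    have hg0 : g ∈ G₀ := by
      rcases hidx with h | h
      · rw [Subgroup.index_eq_one] at h; rw [h]; exact mem_top g
      · rw [show g = (g ^ 2) ^ 2 by rw [← pow_mul, show 2 * 2 = 3 + 1 from rfl, pow_succ, hg3, one_mul]]
        exact pow_mem (sq_mem_of_index_two h g) 2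
    have hle : G₀ ≤ (MonoidHom.noncommCoprod S.subtype M.subtype
        (fun s m => hcomm s s.2 m m.2)).range := by
      rw [← hSM]
      exact sup_le (fun s hs => ⟨(⟨s, hs⟩, 1), mul_one s⟩) (fun m hm => ⟨(1, ⟨m, hm⟩), one_mul m⟩)
    obtain ⟨⟨s, m⟩, hsm⟩ := hle hg0
    have e' : (s : H) * (m : H) = g := hsm
    have h1 : (s : H) ^ 3 * (m : H) ^ 3 = 1 := by
      rw [← (show Commute (s : H) m from hcomm s s.2 m m.2).mul_pow, e', hg3]
    have h2 : (m : H) ^ 3 = 1 := by
      have : (m : H) ^ 3 ∈ S ⊓ M := Subgroup.mem_inf.2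
        ⟨by rw [eq_inv_of_mul_eq_one_right h1]; exact S.inv_mem (S.pow_mem s.2 3), M.pow_mem m.2 3⟩
      rwa [hdisj, Subgroup.mem_bot] at this
    have h3 : orderOf m ∣ 3 := orderOf_dvd_of_pow_eq_one (Subtype.ext h2)
    have h4 : orderOf m = 1 := Nat.eq_one_of_dvd_coprimes
      (Nat.Coprime.coprime_dvd_right (show 3 ∣ 30 by norm_num) hM30) (_root_.orderOf_dvd_natCard m) h3
    rw [← e', orderOf_eq_one_iff.1 h4, OneMemClass.coe_one, mul_one]
    exact s.2
  have haS : a ∈ S := hord a ha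
  have hbS : b ∈ S := hord b hb
  by_cases hM : M = ⊥
  swap
  · exfalso
    have hc1 : Nat.card M ≠ 1 := fun h => hM (Subgroup.eq_bot_of_card_eq _ h)
    obtain ⟨p, hp, hpd⟩ := Nat.exists_prime_and_dvd hc1
    haveI := Fact.mk hp
    obtain ⟨m, hm⟩ := exists_prime_orderOf_dvd_card' (G := M) p hpd
    have hcop : p.Coprime 30 := hM30.coprime_dvd_left hpd
    have hp2 : p ≠ 2 := fun h => by rw [h] at hcop; norm_num at hcop
    have hp5 : p ≠ 5 := fun h => by rw [h] at hcop; norm_num at hcop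
    obtain ⟨c1, c2, c3⟩ := hcen (incl H (m : H))
      ((show Commute a (m : H) from hcomm a haS m m.2).symm.map (incl H))
      ((show Commute b (m : H) from hcomm b hbS m m.2).symm.map (incl H))
    exact no_prime hI hJ hIJ hr hrI hrJ c1 c2 c3.symm hp2 hp5
      (by rw [orderOf_injective _ (incl_injective H), Subgroup.orderOf_coe, hm])
  have hS0 : S = G₀ := by rw [← hSM, hM, sup_bot_eq]
  subst hS0
  rcases hidx with hidx | hidx
  · rw [Subgroup.index_eq_one] at hidx
    exact ⟨(Subgroup.topEquiv.symm.trans (MulEquiv.subgroupCongr hidx.symm)).trans e⟩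
  exfalso
  -- an element of order five and an element outside normalizing it
  have hU := upper_pow_five
  set g : H := ((e.symm upper : S) : H) with hg
  have hgS : g ∈ S := (e.symm upper).2
  have hge : e ⟨g, hgS⟩ = upper := e.apply_symm_apply upper
  have hg5 : g ^ 5 = 1 := by rw [hg, ← Subgroup.coe_pow, ← map_pow, hU.1, map_one, OneMemClass.coe_one]
  have hg1 : g ≠ 1 := fun h => hU.2 (by
    have : e.symm upper = 1 := Subtype.ext h
    rw [← e.apply_symm_apply upper, this, map_one])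
  have hgne : g ^ 2 * g⁻¹ ≠ 1 := by
    rw [pow_two, mul_assoc, mul_inv_cancel, mul_one]; exact hg1
  obtain ⟨n₀, hn₀⟩ : ∃ n : H, n ∉ S := by
    by_contra! h
    rw [(Subgroup.eq_top_iff' S).2 h, Subgroup.index_top] at hidx
    omega
  set k : S := ⟨n₀ * g * n₀⁻¹, hG₀n.conj_mem g hgS n₀⟩
  have hk5 : (e k) ^ 5 = 1 := by
    rw [← map_pow, show k ^ 5 = 1 from Subtype.ext (by
      rw [SubmonoidClass.coe_pow, conj_pow, hg5, mul_one, mul_inv_cancel, OneMemClass.coe_one]), map_one]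
  have hk1 : e k ≠ 1 := fun h => hg1 (by
    have : k = 1 := e.injective (h.trans (map_one e).symm)
    exact conj_eq_one_iff.1 (congrArg Subtype.val this))
  obtain ⟨j, hj, s₀, hs₀⟩ := exists_conj_upper hk5 hk1
  set s : H := ((e.symm s₀ : S) : H) with hs
  have hks : n₀ * g * n₀⁻¹ * s = s * g ^ j := by
    have := congrArg (fun w => ((e.symm w : S) : H)) hs₀
    simpa [map_mul, map_pow, hs, hg, k] using this
  obtain ⟨n, hn, hng⟩ : ∃ n : H, n ∉ S ∧ n * g * n⁻¹ = g ^ j := by
    refine ⟨s⁻¹ * n₀, fun h => hn₀ ((mul_mem_cancel_left (inv_mem (e.symm s₀).2)).1 h), ?_⟩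
    calc s⁻¹ * n₀ * g * (s⁻¹ * n₀)⁻¹ = s⁻¹ * (n₀ * g * n₀⁻¹ * s) := by group
      _ = g ^ j := by rw [hks, inv_mul_cancel_left]
  have hcase : (∃ c : H, c ∉ S ∧ Commute c g) ∨ (∃ c : H, c ∉ S ∧ c * g * c⁻¹ = g ^ 2) := by
    simp only [List.mem_cons, List.not_mem_nil, or_false] at hj
    rcases hj with rfl | rfl | rfl | rfl
    · exact Or.inl ⟨n, hn, mul_inv_eq_iff_eq_mul.1 (hng.trans (pow_one g))⟩
    · exact Or.inr ⟨n, hn, hng⟩
    · refine Or.inr ⟨n⁻¹, fun h => hn (inv_mem_iff.1 h), ?_⟩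
      calc n⁻¹ * g * n⁻¹⁻¹ = n⁻¹ * g ^ (5 + 1) * n := by rw [pow_succ, hg5, one_mul, inv_inv]
        _ = n⁻¹ * (n * g * n⁻¹) ^ 2 * n := by rw [hng, ← pow_mul]
        _ = g ^ 2 := by rw [conj_pow]; group
    · set δ : H := ((e.symm diag : S) : H) with hδ
      have hdg : δ * g * δ⁻¹ = g ^ 4 := by
        rw [mul_inv_eq_iff_eq_mul]
        have := congrArg (fun w => ((e.symm w : S) : H)) diag_conj
        simpa [map_mul, map_pow, hδ, hg] using this
      refine Or.inl ⟨δ * n, fun h => hn ((mul_mem_cancel_left (e.symm diag).2).1 h), ?_⟩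
      refine mul_inv_eq_iff_eq_mul.1 ?_
      calc δ * n * g * (δ * n)⁻¹ = δ * (n * g * n⁻¹) * δ⁻¹ := by group
        _ = (δ * g * δ⁻¹) ^ 4 := by rw [hng, conj_pow]
        _ = g ^ (5 + 5 + 5 + 1) := by rw [hdg, ← pow_mul]
        _ = g := by rw [show 5 + 5 + 5 + 1 = 5 * 3 + 1 from rfl, pow_succ, pow_mul, hg5, one_pow, one_mul]
  -- elements of `S` centralizing `g`
  have hS10 : ∀ w : H, w ∈ S → Commute w g → w ^ 10 = 1 := by
    intro w hw hwg
    have h1 := centralizer_upper (m := e ⟨w, hw⟩) (by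
      rw [← hge, ← map_mul, ← map_mul]; exact congrArg e (Subtype.ext hwg.eq))
    rw [← map_pow, e.map_eq_one_iff] at h1
    simpa using congrArg Subtype.val h1
  have hsmall : ∀ w : H, w ∈ S → Commute w g → ∀ i : ℕ, w ^ 2 ^ i = 1 → w ^ 2 = 1 := by
    intro w hw hwg i hi
    have h1 := Nat.dvd_gcd (orderOf_dvd_of_pow_eq_one hi) (orderOf_dvd_of_pow_eq_one (hS10 w hw hwg))
    have h2 : Nat.gcd (2 ^ i) 10 ∣ 2 := by
      rw [show (10 : ℕ) = 5 * 2 from rfl, Nat.Coprime.gcd_mul_left_cancel_right]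
      · exact Nat.gcd_dvd_right _ _
      · exact (Nat.Coprime.pow_left i (by norm_num : Nat.Coprime 2 5)).symm
    exact orderOf_dvd_iff_pow_eq_one.1 (h1.trans h2)
  -- the only involution is `-1`
  have hinv : ∀ w : H, w ^ 2 = 1 → w ≠ 1 → incl H w = -1 := fun w h2 h1 =>
    (incl_fpf H).neg_one (orderOf_eq_prime h2 h1)
  have hcentral : ∀ w : H, w ^ 2 = 1 → ∀ u : H, Commute w u := by
    intro w h2 u
    by_cases h1 : w = 1
    · rw [h1]; exact Commute.one_left u
    · exact incl_injective H (by rw [map_mul, map_mul, hinv w h2 h1, neg_one_mul, mul_neg_one])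
  rcases hcase with ⟨c₀, hc₀, hcg₀⟩ | ⟨c₀, hc₀, hcg₀⟩
  · obtain ⟨m, i, -, hcS, hci⟩ := two_part hidx hc₀
    set c := c₀ ^ m
    have hcg : Commute c g := hcg₀.pow_left m
    have hc2S : c ^ 2 ∈ S := sq_mem_of_index_two hidx c
    have hc4 : (c ^ 2) ^ 2 = 1 := hsmall _ hc2S (hcg.pow_left 2) i (by
      rw [← pow_mul, mul_comm, pow_mul, ← hci, pow_orderOf_eq_one, one_pow])
    have hc2 : c ^ 2 ≠ 1 := by
      intro h2
      obtain ⟨z, hz⟩ := exists_prime_orderOf_dvd_card' (G := S) (hp := ⟨Nat.prime_two⟩) 2 (by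
        rw [Nat.card_congr e.toEquiv, Nat.card_eq_fintype_card (α := SL25), Cfsg.Agent.S3374.card_sl]; norm_num)
      have hz' : orderOf (z : H) = 2 := by rw [Subgroup.orderOf_coe]; exact hz
      refine hcS ?_
      rcases eq_or_ne c 1 with h | h
      · rw [h]; exact one_mem S
      · rw [incl_injective H ((hinv c h2 h).trans ((incl_fpf H).neg_one hz').symm)]; exact z.2
    have hcm : ∀ x : H, Commute (c ^ 2) x := hcentral _ hc4
    have hconj : ∀ x : S, c * (x : H) * c⁻¹ ∈ S := fun x => hG₀n.conj_mem _ x.2 c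
    let φ : SL25 ≃* SL25 := e.symm.trans
      (((MulAut.conjNormal (H := S) c)).trans e)
    have hφv : ∀ x : S, φ (e x) = e ⟨c * (x : H) * c⁻¹, hconj x⟩ := fun x => by
      simp only [φ, MulEquiv.trans_apply, e.symm_apply_apply]
      exact congrArg e (Subtype.ext (MulAut.conjNormal_apply c x))
    have hfix : ∀ x : S, Commute c (x : H) := by
      intro x
      have h := mulAut_eq_one φ (by
          rw [← hge, hφv]; exact congrArg e (Subtype.ext (mul_inv_eq_iff_eq_mul.2 hcg.eq))) (fun w => by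
          obtain ⟨y, rfl⟩ := e.surjective w
          rw [hφv, hφv]
          refine congrArg e (Subtype.ext ?_)
          show c * (c * (y : H) * c⁻¹) * c⁻¹ = y
          calc c * (c * (y : H) * c⁻¹) * c⁻¹ = c ^ 2 * y * (c ^ 2)⁻¹ := by rw [pow_two]; group
            _ = y := by rw [(hcm y).eq, mul_inv_cancel_right]) (e x)
      rw [hφv] at h
      exact mul_inv_eq_iff_eq_mul.1 (congrArg Subtype.val (e.injective h))
    obtain ⟨c1, c2, -⟩ := hcen (incl H c) ((hfix ⟨a, haS⟩).map (incl H)) ((hfix ⟨b, hbS⟩).map (incl H))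
    refine no_two_sq two_ne_zero hI hJ hIJ (α := incl H c) (β := 0) c1 c2 (Commute.zero_left I)
      (Commute.zero_left J) (Commute.zero_right _) ?_
    rw [mul_zero, add_zero, ← map_mul, ← pow_two, hinv _ hc4 hc2]
  · obtain ⟨m, i, hm, hcS, hci⟩ := two_part hidx hc₀
    have hpow : ∀ l : ℕ, c₀ ^ l * g * (c₀ ^ l)⁻¹ = g ^ 2 ^ l := by
      intro l
      induction l with
      | zero => simp
      | succ l ih =>
        calc c₀ ^ (l + 1) * g * (c₀ ^ (l + 1))⁻¹ = c₀ * (c₀ ^ l * g * (c₀ ^ l)⁻¹) * c₀⁻¹ := by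
              rw [pow_succ']; group
          _ = (c₀ * g * c₀⁻¹) ^ 2 ^ l := by rw [ih, conj_pow]
          _ = g ^ 2 ^ (l + 1) := by rw [hcg₀, ← pow_mul, pow_succ']
    obtain ⟨x, hxi, hxg⟩ : ∃ x : H, orderOf x = 2 ^ i ∧ x * g * x⁻¹ = g ^ 2 := by
      have hmod : ∀ q : ℕ, g ^ q = g ^ (q % 5) := fun q => pow_eq_pow_mod q hg5
      obtain ⟨l, rfl⟩ := hm
      have h2 : 2 ^ (2 * l + 1) % 5 = 2 ∨ 2 ^ (2 * l + 1) % 5 = 3 := by
        rw [pow_succ, pow_mul, Nat.mul_mod, Nat.pow_mod]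
        norm_num
        rcases Nat.even_or_odd' l with ⟨u, hu | hu⟩ <;> subst hu <;>
          simp [pow_succ, pow_mul, Nat.mul_mod, Nat.pow_mod]
      have h3 := hpow (2 * l + 1)
      rw [hmod] at h3
      rcases h2 with h2 | h2
      · exact ⟨_, hci, by rwa [h2] at h3⟩
      · refine ⟨(c₀ ^ (2 * l + 1))⁻¹, by rw [orderOf_inv]; exact hci, ?_⟩
        rw [h2] at h3
        calc (c₀ ^ (2 * l + 1))⁻¹ * g * (c₀ ^ (2 * l + 1))⁻¹⁻¹
            = (c₀ ^ (2 * l + 1))⁻¹ * g ^ (5 + 1) * c₀ ^ (2 * l + 1) := by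
              rw [show g ^ (5 + 1) = g by rw [pow_succ, hg5, one_mul], inv_inv]
          _ = (c₀ ^ (2 * l + 1))⁻¹ * (c₀ ^ (2 * l + 1) * g * (c₀ ^ (2 * l + 1))⁻¹) ^ 2 * c₀ ^ (2 * l + 1) := by
              rw [h3, ← pow_mul]
          _ = g ^ 2 := by rw [conj_pow]; group
    have hx2 : x ^ 2 * g * (x ^ 2)⁻¹ = g ^ 4 := by
      calc x ^ 2 * g * (x ^ 2)⁻¹ = x * (x * g * x⁻¹) * x⁻¹ := by rw [pow_two]; group
        _ = g ^ 4 := by rw [hxg, ← conj_pow, hxg, ← pow_mul]
    have hx4 : x ^ 4 * g * (x ^ 4)⁻¹ = g := by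
      calc x ^ 4 * g * (x ^ 4)⁻¹ = x ^ 2 * (x ^ 2 * g * (x ^ 2)⁻¹) * (x ^ 2)⁻¹ := by group
        _ = g ^ (5 + 5 + 5 + 1) := by rw [hx2, ← conj_pow, hx2, ← pow_mul]
        _ = g := by rw [show 5 + 5 + 5 + 1 = 5 * 3 + 1 from rfl, pow_succ, pow_mul, hg5, one_pow, one_mul]
    have hxS : x ^ 4 ∈ S := by
      rw [show x ^ 4 = (x ^ 2) ^ 2 by rw [← pow_mul]]
      exact sq_mem_of_index_two hidx _
    have hx8 : (x ^ 4) ^ 2 = 1 := hsmall _ hxS (mul_inv_eq_iff_eq_mul.1 hx4) i (by
      rw [← pow_mul, mul_comm, pow_mul, ← hxi, pow_orderOf_eq_one, one_pow])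
    have hx41 : x ^ 4 ≠ 1 := by
      intro h
      have h1 : x ^ 2 * g * (x ^ 2)⁻¹ = g := by
        rw [(hcentral (x ^ 2) (by rw [← pow_mul, h]) g).eq, mul_inv_cancel_right]
      have h2 : g ^ 3 = 1 := by
        have : g ^ 4 = g := hx2.symm.trans h1
        rwa [pow_succ, mul_eq_right] at this
      exact hg1 (by simpa [pow_gcd_eq_one] using (show g ^ Nat.gcd 3 5 = 1 from pow_gcd_eq_one.2 ⟨h2, hg5⟩))
    refine no_swap (g := incl H g) (x := incl H x) (by rw [← map_pow, hg5, map_one])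
      (fun h => hg1 (incl_injective H (h.trans (map_one _).symm))) ?_
      (by rw [← map_pow, hinv _ hx8 hx41])
    rw [← map_pow, ← map_mul, ← map_mul]
    exact congrArg _ (mul_inv_eq_iff_eq_mul.1 hxg)

end CfsgLib.Amitsur
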